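import Mathlib
import Cfsg.Agent.H958.Arith

/-!
# Arithmetic of the criterion in the form used in the statements
-/

set_option autoImplicit false

namespace Cfsg.Agent.H958

theorem div_sub' {n m c : ℕ} (hc : 0 < c) (h : m % c = n % c) (hmn : m ≤ n) :
    (n - m) / c = n / c - m / c ∧ m / c ≤ n / c := by
  refine ⟨?_, Nat.div_le_div_right hmn⟩
  have h1 := Nat.div_add_mod n c
  have h2 := Nat.div_add_mod m c
  have h3 : n - m = c * (n / c - m / c) := by
    rw [Nat.mul_sub]; omega
  rw [h3, Nat.mul_div_cancel_left _ hc]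

theorem div_add' {n m c : ℕ} (hc : 0 < c) (h : m % c = n % c) :
    (n + m - 2 * (n % c)) / c = n / c + m / c := by
  have h1 := Nat.div_add_mod n c
  have h2 := Nat.div_add_mod m c
  have h3 : n + m - 2 * (n % c) = c * (n / c + m / c) := by
    rw [mul_add]; omega
  rw [h3, Nat.mul_div_cancel_left _ hc]

/-- the parity of `(n - m) / c` -/
theorem even_div_sub {n m c : ℕ} (hc : 0 < c) (h : m % c = n % c) (hmn : m ≤ n) :
    Even ((n - m) / c) ↔ (Even (n / c) ↔ Even (m / c)) := by
  obtain ⟨h1, h2⟩ := div_sub' hc h hmn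
  rw [h1, Nat.even_sub h2]

theorem even_div_add {n m c : ℕ} (hc : 0 < c) (h : m % c = n % c) :
    Even ((n + m - 2 * (n % c)) / c) ↔ (Even (n / c) ↔ Even (m / c)) := by
  rw [div_add' hc h, Nat.even_add]

end Cfsg.Agent.H958
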