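import Mathlib
import Cfsg.Agent.H958.JTwoExists

/-!
# Involutions in characteristic two
-/

set_option autoImplicit false

namespace Cfsg.Agent.H958

open Module QuadraticMap Cfsg.Agent.LieClassical.OrthCore Cfsg.Agent.LieClassical.OrthTrans
  Cfsg.Agent.H955 Cfsg.Agent.LieClassical.OrthFinite

universe u v w
variable {F : Type u} [Field F]

section Basic

variable {V : Type v} [AddCommGroup V] [Module F V] {Q : QuadraticForm F V} {T : V ≃ₗ[F] V}

theorem add_self_zero (h2 : (2 : F) = 0) (x : F) : x + x = 0 := by rw [← two_mul, h2, zero_mul]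

theorem eq_of_add_zero (h2 : (2 : F) = 0) {x y : F} (h : x + y = 0) : x = y := by
  have := add_self_zero h2 y
  linear_combination h - this

theorem neg_eq_self' (h2 : (2 : F) = 0) (v : V) : -v = v := by
  have h : (2 : F) • v = 0 := by rw [h2, zero_smul]
  rw [two_smul] at h
  exact neg_eq_of_add_eq_zero_left h

theorem polar_self_zero (h2 : (2 : F) = 0) (v : V) : polar Q v v = 0 := by
  rw [polar_self', h2, zero_mul]

theorem polar_T (hT : T ∈ O Q) (hTT : ∀ v, T (T v) = v) (v w : V) :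
    polar Q v (T w) = polar Q (T v) w := by
  rw [← polar_map hT v (T w), hTT]

theorem beta_T (hT : T ∈ O Q) (v : V) : polar Q (T v) (T (T v)) = polar Q v (T v) :=
  polar_map hT _ _

theorem beta_add (h2 : (2 : F) = 0) (hT : T ∈ O Q) (hTT : ∀ v, T (T v) = v) (v w : V) :
    polar Q (v + w) (T (v + w)) = polar Q v (T v) + polar Q w (T w) := by
  have h1 : polar Q w (T v) = polar Q v (T w) := by
    rw [polar_T hT hTT, polar_comm]
  rw [map_add, polar_add_left, polar_add_right, polar_add_right, h1]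
  have := add_self_zero h2 (polar Q v (T w))
  linear_combination this

theorem beta_smul (c : F) (v : V) : polar Q (c • v) (T (c • v)) = c ^ 2 * polar Q v (T v) := by
  rw [map_smul, polar_smul_left, polar_smul_right, smul_eq_mul, smul_eq_mul]
  ring

/-- if the form `polar v (T v)` vanishes -/
theorem isJTwo_of_beta (h2 : (2 : F) = 0) (hT : T ∈ O Q) (hTT : ∀ v, T (T v) = v)
    (hβ : ∀ v, polar Q v (T v) = 0) : IsJTwo Q T where
  mem := hT
  sq v := by
    rw [map_sub, hTT]
    have := neg_eq_self' h2 (v - T v)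
    rw [neg_sub] at this
    exact this.symm
  alt v := by rw [polar_sub_right, hβ, polar_self_zero h2, sub_self]

/-- the plane `⟨v, T v⟩`. -/
theorem planeTwo [FiniteDimensional F V] (h2 : (2 : F) = 0) (hT : T ∈ O Q) (hTT : ∀ v, T (T v) = v) {v : V}
    (hv : polar Q v (T v) ≠ 0) :
    ∃ P : Submodule F V, (∀ x, x ∈ P ↔ ∃ a b : F, x = a • v + b • T v) ∧ (∀ w ∈ P, T w ∈ P) ∧
      Nondeg (res Q P) ∧ finrank F P = 2 ∧
      (IsPlus (res Q P) ↔ ∃ a b : F, (a ≠ 0 ∨ b ≠ 0) ∧ (a ^ 2 + b ^ 2) * Q v + a * b * polar Q v (T v) = 0) := by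
  let Φ : (F × F) →ₗ[F] V :=
    LinearMap.coprod (LinearMap.toSpanSingleton F V v) (LinearMap.toSpanSingleton F V (T v))
  have hΦ : ∀ a b, Φ (a, b) = a • v + b • T v := fun _ _ => rfl
  have hrad : ∀ a b, polar Q (Φ (a, b)) v = 0 → polar Q (Φ (a, b)) (T v) = 0 → a = 0 ∧ b = 0 := by
    intro a b h1 h3
    rw [hΦ, polar_add_left, polar_smul_left, polar_smul_left, polar_self_zero h2, smul_zero, zero_add,
      polar_comm, smul_eq_mul] at h1
    rw [hΦ, polar_add_left, polar_smul_left, polar_smul_left, polar_self_zero h2, smul_zero, add_zero,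
      smul_eq_mul] at h3
    exact ⟨(mul_eq_zero.1 h3).resolve_right hv, (mul_eq_zero.1 h1).resolve_right hv⟩
  have hinj : Function.Injective Φ := by
    rw [← LinearMap.ker_eq_bot, LinearMap.ker_eq_bot']
    rintro ⟨a, b⟩ h0
    obtain ⟨rfl, rfl⟩ := hrad a b (by rw [h0, polar_zero_left]) (by rw [h0, polar_zero_left])
    rfl
  have hmv : v ∈ LinearMap.range Φ := ⟨(1, 0), by rw [hΦ]; simp⟩
  have hmv' : T v ∈ LinearMap.range Φ := ⟨(0, 1), by rw [hΦ]; simp⟩
  have hnd : Nondeg (res Q (LinearMap.range Φ)) := by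
    rw [nondeg_res_iff]
    rintro _ ⟨⟨a, b⟩, rfl⟩ hx
    obtain ⟨rfl, rfl⟩ := hrad a b (hx v hmv) (hx (T v) hmv')
    exact map_zero Φ
  have hd : finrank F (LinearMap.range Φ) = 2 := by
    rw [LinearMap.finrank_range_of_inj hinj]
    simp only [Module.finrank_prod, Module.finrank_self]
  have hmem : ∀ x, x ∈ LinearMap.range Φ ↔ ∃ a b : F, x = a • v + b • T v := by
    intro x
    constructor
    · rintro ⟨⟨a, b⟩, rfl⟩
      exact ⟨a, b, rfl⟩
    · rintro ⟨a, b, rfl⟩
      exact ⟨(a, b), rfl⟩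
  have hQ : ∀ a b : F, Q (a • v + b • T v) = (a ^ 2 + b ^ 2) * Q v + a * b * polar Q v (T v) := by
    intro a b
    rw [Q_add, QuadraticMap.map_smul, QuadraticMap.map_smul, polar_smul_left, polar_smul_right, hT]
    simp only [smul_eq_mul]
    ring
  refine ⟨LinearMap.range Φ, hmem, ?_, hnd, hd, ?_⟩
  · intro w hw
    obtain ⟨a, b, rfl⟩ := (hmem w).1 hw
    rw [hmem]
    refine ⟨b, a, ?_⟩
    rw [map_add, map_smul, map_smul, hTT, add_comm]
  · constructor
    · rintro ⟨U, hU, hUd⟩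
      rw [hd] at hUd
      obtain ⟨x, hx, hx0⟩ := exists_ne_zero_of_finrank_pos (U := U) (by omega)
      obtain ⟨a, b, hab⟩ := (hmem x).1 x.2
      refine ⟨a, b, ?_, ?_⟩
      · by_contra hcon
        push Not at hcon
        apply hx0
        apply Subtype.ext
        rw [hab, hcon.1, hcon.2, zero_smul, zero_smul, add_zero]
        rfl
      · have h3 : Q (x : V) = 0 := hU x hx
        rwa [hab, hQ] at h3
    · rintro ⟨a, b, hab, h0⟩
      rw [← hQ] at h0
      have hx : a • v + b • T v ∈ LinearMap.range Φ := (hmem _).2 ⟨a, b, rfl⟩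
      refine isPlus_of_le hnd (U := F ∙ (⟨_, hx⟩ : ↥(LinearMap.range Φ))) ?_ ?_
      · intro u hu
        obtain ⟨c, rfl⟩ := Submodule.mem_span_singleton.1 hu
        rw [QuadraticMap.map_smul]
        have : res Q _ (⟨_, hx⟩ : ↥(LinearMap.range Φ)) = 0 := h0
        rw [this, smul_zero]
      · rw [hd, finrank_span_singleton]
        intro h1
        have h3 := congrArg Subtype.val h1
        have h3' : Φ (a, b) = 0 := h3
        obtain ⟨rfl, rfl⟩ := hrad a b (by rw [h3', polar_zero_left]) (by rw [h3', polar_zero_left])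
        rcases hab with h | h <;> exact h rfl

end Basic

section Finite

variable [Finite F] {V : Type v} [AddCommGroup V] [Module F V] [FiniteDimensional F V]
  {Q : QuadraticForm F V} {T : V ≃ₗ[F] V}

theorem exists_sqrt (h2 : (2 : F) = 0) (c : F) : ∃ t, t ^ 2 = c := by
  have hchar : CharP F 2 := CharTwo.of_one_ne_zero_of_two_eq_zero one_ne_zero h2
  obtain ⟨t, ht⟩ := (frobeniusEquiv F 2).surjective c
  exact ⟨t, ht⟩

/-- the vector representing the form `polar v (T v)`. -/
theorem exists_u (h2 : (2 : F) = 0) (hQ : Nondeg Q) (hT : T ∈ O Q) (hTT : ∀ v, T (T v) = v) :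
    ∃ u, ∀ v, polar Q v (T v) = polar Q u v ^ 2 := by
  have hchar : CharP F 2 := CharTwo.of_one_ne_zero_of_two_eq_zero one_ne_zero h2
  let e := frobeniusEquiv F 2
  have he : ∀ x, e x = x ^ 2 := fun _ => rfl
  let l : V →ₗ[F] F :=
    { toFun := fun v => e.symm (polar Q v (T v))
      map_add' := by
        intro v w
        rw [beta_add h2 hT hTT, map_add]
      map_smul' := by
        intro c v
        rw [beta_smul, map_mul, ← he c, RingEquiv.symm_apply_apply, RingHom.id_apply, smul_eq_mul] }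
  refine ⟨(LinearMap.BilinForm.toDual (polarBilin Q) (nondegenerate_of_nondeg hQ)).symm l, fun v => ?_⟩
  have h1 := LinearMap.BilinForm.apply_toDual_symm_apply (hB := nondegenerate_of_nondeg hQ) l v
  have h3 : polar Q ((LinearMap.BilinForm.toDual (polarBilin Q) (nondegenerate_of_nondeg hQ)).symm l) v = l v :=
    h1
  rw [h3, ← he]
  exact (e.apply_symm_apply _).symm

/-- planes of both types -/
theorem exists_plane_type (h2 : (2 : F) = 0) (hQ : Nondeg Q) (hd : 4 ≤ finrank F V) (hT : T ∈ O Q)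
    (hTT : ∀ v, T (T v) = v) (hβ : ∃ v, polar Q v (T v) ≠ 0) (δ : Prop) :
    ∃ P : Submodule F V, (∀ w ∈ P, T w ∈ P) ∧ Nondeg (res Q P) ∧ finrank F P = 2 ∧
      (IsPlus (res Q P) ↔ δ) := by
  obtain ⟨v₀, hv₀⟩ := hβ
  obtain ⟨u, hu⟩ := exists_u h2 hQ hT hTT
  have huv : polar Q u v₀ ≠ 0 := by
    intro h0
    rw [hu, h0] at hv₀
    exact hv₀ (zero_pow two_ne_zero)
  -- an anisotropic vector orthogonal to `u` and `v₀`
  obtain ⟨k, hk, hku, hkv⟩ : ∃ k, Q k ≠ 0 ∧ polar Q u k = 0 ∧ polar Q v₀ k = 0 := by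
    let Φ : (F × F) →ₗ[F] V :=
      LinearMap.coprod (LinearMap.toSpanSingleton F V u) (LinearMap.toSpanSingleton F V v₀)
    have hΦ : ∀ a b, Φ (a, b) = a • u + b • v₀ := fun _ _ => rfl
    have hmu : u ∈ LinearMap.range Φ := ⟨(1, 0), by rw [hΦ]; simp⟩
    have hmv : v₀ ∈ LinearMap.range Φ := ⟨(0, 1), by rw [hΦ]; simp⟩
    have hnd : Nondeg (res Q (LinearMap.range Φ)) := by
      rw [nondeg_res_iff]
      rintro _ ⟨⟨a, b⟩, rfl⟩ hx
      have h1 := hx u hmu
      have h3 := hx v₀ hmv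
      rw [hΦ, polar_add_left, polar_smul_left, polar_smul_left, polar_self_zero h2, smul_zero, zero_add,
        polar_comm, smul_eq_mul] at h1
      rw [hΦ, polar_add_left, polar_smul_left, polar_smul_left, polar_self_zero h2, smul_zero, add_zero,
        smul_eq_mul] at h3
      rw [hΦ, (mul_eq_zero.1 h3).resolve_right huv, (mul_eq_zero.1 h1).resolve_right huv, zero_smul,
        zero_smul, add_zero]
    have hdΦ : finrank F (LinearMap.range Φ) ≤ 2 := by
      have := LinearMap.finrank_range_le Φ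
      rw [Module.finrank_prod, Module.finrank_self] at this
      omega
    have h3 := finrank_add_perp hQ (LinearMap.range Φ)
    obtain ⟨k, hk⟩ := exists_aniso_vec (nondeg_perp hQ hnd) (by omega)
    exact ⟨k, hk, k.2 u hmu, k.2 v₀ hmv⟩
  -- every value is taken
  have hval : ∀ c : F, ∃ v, Q v = c ∧ polar Q v (T v) = polar Q v₀ (T v₀) := by
    intro c
    obtain ⟨t, ht⟩ := exists_sqrt h2 ((c - Q v₀) / Q k)
    refine ⟨v₀ + t • k, ?_, ?_⟩
    · rw [Q_add, QuadraticMap.map_smul, polar_smul_right, hkv, smul_zero, add_zero, smul_eq_mul, ← pow_two,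
        ht, div_mul_cancel₀ _ hk]
      ring
    · rw [beta_add h2 hT hTT, beta_smul, hu k, hku]
      ring
  by_cases hδ : δ
  · obtain ⟨v, hv, hβ⟩ := hval 0
    obtain ⟨P, -, h1, h3, h4, h5⟩ := planeTwo h2 hT hTT (v := v) (by rw [hβ]; exact hv₀)
    refine ⟨P, h1, h3, h4, iff_of_true (h5.2 ⟨1, 0, Or.inl one_ne_zero, ?_⟩) hδ⟩
    rw [hv]; ring
  · -- a value which makes the plane anisotropic
    set b₀ := polar Q v₀ (T v₀) with hb₀
    obtain ⟨c, hc⟩ : ∃ c, ∀ x : F, b₀ * x / (x ^ 2 + 1) ≠ c := by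
      by_contra hcon
      push Not at hcon
      have hs : Function.Surjective (fun x : F => b₀ * x / (x ^ 2 + 1)) := hcon
      have hi := Finite.injective_iff_surjective.2 hs
      have h01 : (0 : F) = 1 := by
        apply hi
        have h11 : (1 : F) ^ 2 + 1 = 0 := by rw [one_pow]; exact add_self_zero h2 1
        change b₀ * 0 / (0 ^ 2 + 1) = b₀ * 1 / (1 ^ 2 + 1)
        rw [h11, div_zero, mul_zero, zero_div]
      exact zero_ne_one h01
    obtain ⟨v, hv, hβ⟩ := hval c
    obtain ⟨P, -, h1, h3, h4, h5⟩ := planeTwo h2 hT hTT (v := v) (by rw [hβ]; exact hv₀)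
    refine ⟨P, h1, h3, h4, iff_of_false (fun hp => ?_) hδ⟩
    obtain ⟨a, b, hab, h0⟩ := h5.1 hp
    rw [hv, hβ] at h0
    have hc0 : c ≠ 0 := by
      intro h
      apply hc 0
      rw [h]; simp
    by_cases hb : b = 0
    · rw [hb] at h0 hab
      have h6 : a ^ 2 * c = 0 := by linear_combination h0
      rcases mul_eq_zero.1 h6 with h7 | h7
      · rcases hab with h8 | h8
        · exact h8 (pow_eq_zero_iff two_ne_zero |>.1 h7)
        · exact h8 rfl
      · exact hc0 h7
    · have h6 : ((a / b) ^ 2 + 1) * c + (a / b) * b₀ = 0 := by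
        field_simp
        linear_combination h0
      by_cases h7 : (a / b) ^ 2 + 1 = 0
      · rw [h7, zero_mul, zero_add] at h6
        rcases mul_eq_zero.1 h6 with h8 | h8
        · rw [h8] at h7
          simp at h7
        · exact hv₀ h8
      · apply hc (a / b)
        rw [div_eq_iff h7]
        have h9 := eq_of_add_zero h2 h6
        rw [mul_comm c, h9, mul_comm]

/-- choice of the first plane -/
theorem exists_first_plane (h2 : (2 : F) = 0) (hQ : Nondeg Q) (hT : T ∈ O Q)
    (hTT : ∀ v, T (T v) = v) (hβ : ∃ v, polar Q v (T v) ≠ 0) :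
    ∃ P : Submodule F V, (∀ w ∈ P, T w ∈ P) ∧ Nondeg (res Q P) ∧ finrank F P = 2 ∧
      ((∃ w ∈ perp Q P, polar Q w (T w) ≠ 0) ∨ ∀ w ∈ perp Q P, T w = w) := by
  obtain ⟨v₀, hv₀⟩ := hβ
  obtain ⟨P, hmem, hPT, hP, hPd, -⟩ := planeTwo h2 hT hTT hv₀
  by_cases h1 : ∃ w ∈ perp Q P, polar Q w (T w) ≠ 0
  · exact ⟨P, hPT, hP, hPd, Or.inl h1⟩
  by_cases h3 : ∀ w ∈ perp Q P, T w = w
  · exact ⟨P, hPT, hP, hPd, Or.inr h3⟩
  push Not at h1 h3
  obtain ⟨v', hv', hne⟩ := h3
  have hPT' := map_mem_perp hT hPT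
  have hv₀P : v₀ ∈ P := (hmem _).2 ⟨1, 0, by simp⟩
  have hTv₀P : T v₀ ∈ P := hPT _ hv₀P
  have hPn := nondeg_perp hQ hP
  -- `w''` in the complement with `polar w'' (T v' - v') = 1`
  have hn0 : (⟨T v' - v', Submodule.sub_mem _ (hPT' v' hv') hv'⟩ : perp Q P) ≠ 0 := by
    intro h0
    exact hne (sub_eq_zero.1 (congrArg Subtype.val h0))
  obtain ⟨w₁, hw₁⟩ := hPn.exists_polar_eq hn0 1
  have hw₁' : polar Q (T v' - v') (w₁ : V) = 1 := hw₁
  have hβv' := h1 v' hv'
  set n := T v' - v' with hn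
  have hTn : T n = n := by
    rw [hn, map_sub, hTT]
    have := neg_eq_self' h2 (v' - T v')
    rw [neg_sub] at this
    exact this.symm
  -- `w' = b w₁ + b (w₁, v') (T w₁ - w₁)`
  set b := polar Q v₀ (T v₀) with hb
  set w₁v : V := (w₁ : V) with hw₁v
  have hw₁P : w₁v ∈ perp Q P := w₁.2
  have e1 : polar Q w₁v n = 1 := by rw [polar_comm]; exact hw₁'
  have hβw₁ := h1 w₁v hw₁P
  set y := T w₁v - w₁v with hy
  have e2 : polar Q y v' = 1 := by
    have h4 : polar Q (T w₁v) v' = polar Q w₁v (T v') := (polar_T hT hTT w₁v v').symm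
    rw [hy, polar_sub_left, h4, ← polar_sub_right, ← hn, e1]
  have e3 : polar Q y n = 0 := by
    have h4 : polar Q (T w₁v) n = polar Q w₁v n := by rw [← polar_T hT hTT, hTn]
    rw [hy, polar_sub_left, h4, sub_self]
  set w' := b • w₁v + (b * polar Q w₁v v') • y with hw'
  have hyP : y ∈ perp Q P := Submodule.sub_mem _ (hPT' _ hw₁P) hw₁P
  have hw'P : w' ∈ perp Q P := Submodule.add_mem _ (Submodule.smul_mem _ _ hw₁P) (Submodule.smul_mem _ _ hyP)
  have e4 : polar Q w' v' = 0 := by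
    rw [hw', polar_add_left, polar_smul_left, polar_smul_left, e2, smul_eq_mul, smul_eq_mul, mul_one]
    exact add_self_zero h2 _
  have e5 : polar Q w' n = b := by
    rw [hw', polar_add_left, polar_smul_left, polar_smul_left, e1, e3, smul_eq_mul, smul_eq_mul, mul_one,
      mul_zero, add_zero]
  have e6 : polar Q w' (T v') = b := by
    have : T v' = n + v' := by rw [hn]; abel
    rw [this, polar_add_right, e5, e4, add_zero]
  have hv : polar Q (v₀ + v') (T (v₀ + v')) ≠ 0 := by
    rw [beta_add h2 hT hTT, hβv', add_zero]; exact hv₀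
  obtain ⟨P', hmem', hPT2, hP', hPd', -⟩ := planeTwo h2 hT hTT hv
  refine ⟨P', hPT2, hP', hPd', Or.inl ⟨v₀ + w', ?_, ?_⟩⟩
  · have a1 : polar Q (v₀ + w') (v₀ + v') = 0 := by
      rw [polar_add_left, polar_add_right, polar_add_right, polar_self_zero h2, hv' _ hv₀P, e4,
        polar_comm, hw'P _ hv₀P]
      simp
    have a2 : polar Q (v₀ + w') (T (v₀ + v')) = 0 := by
      rw [map_add, polar_add_left, polar_add_right, polar_add_right, hPT' v' hv' _ hv₀P, e6,
        polar_comm Q w' (T v₀), hw'P _ hTv₀P, add_zero, zero_add, ← hb]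
      exact add_self_zero h2 _
    rw [mem_perp']
    intro x hx
    obtain ⟨a, c, rfl⟩ := (hmem' x).1 hx
    rw [polar_add_right, polar_smul_right, polar_smul_right, a1, a2, smul_zero, smul_zero, add_zero]
  · rw [beta_add h2 hT hTT, h1 w' hw'P, add_zero]; exact hv₀

end Finite

/-- **characteristic two**: an isometric involution with `polar v (T v) ≠ 0` for some `v` leaves invariant
nondegenerate subspaces of every even dimension and every type. -/
theorem charTwo_inv [Finite F] (h2 : (2 : F) = 0) (s : ℕ) :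
    ∀ {V : Type v} [AddCommGroup V] [Module F V] [FiniteDimensional F V] {Q : QuadraticForm F V},
    Nondeg Q → Even (finrank F V) → ∀ {T : V ≃ₗ[F] V}, T ∈ O Q → (∀ v, T (T v) = v) →
    (∃ v, polar Q v (T v) ≠ 0) → 0 < s → 2 * s + 2 ≤ finrank F V → ∀ δ : Prop,
    ∃ W : Submodule F V, (∀ w ∈ W, T w ∈ W) ∧ Nondeg (res Q W) ∧ finrank F W = 2 * s ∧
      (IsPlus (res Q W) ↔ δ) := by
  induction s with
  | zero => intro V _ _ _ Q _ _ T _ _ _ h; exact absurd h (lt_irrefl 0)
  | succ s ih =>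
    intro V _ _ _ Q hQ he T hT hTT hβ _ hd δ
    rcases Nat.eq_zero_or_pos s with rfl | hs
    · obtain ⟨P, h1, h3, h4, h5⟩ := exists_plane_type h2 hQ (by omega) hT hTT hβ δ
      exact ⟨P, h1, h3, by rw [h4], h5⟩
    · obtain ⟨P, hPT, hP, hPd, hcase⟩ := exists_first_plane h2 hQ hT hTT hβ
      have h1 := finrank_add_perp hQ P
      have hPT' := map_mem_perp hT hPT
      have hPn := nondeg_perp hQ hP
      have hPe : Even (finrank F (perp Q P)) := by
        obtain ⟨n, hn⟩ := he
        exact ⟨n - 1, by omega⟩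
      obtain ⟨W, hWT, hW, hWd, hWp⟩ : ∃ W : Submodule F (perp Q P), (∀ w ∈ W, resT T _ hPT' w ∈ W) ∧
          Nondeg (res (res Q (perp Q P)) W) ∧ finrank F W = 2 * s ∧
          (IsPlus (res (res Q (perp Q P)) W) ↔ (δ ↔ IsPlus (res Q P))) := by
        rcases hcase with ⟨w, hw, hwβ⟩ | hfix
        · exact ih hPn hPe (resT_mem hT hPT') (fun v => Subtype.ext (hTT v)) ⟨⟨w, hw⟩, hwβ⟩ hs (by omega) _
        · obtain ⟨W, hW, hWd, hWp⟩ := exists_subspace hPn hPe s hs (by omega) (δ ↔ IsPlus (res Q P))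
          refine ⟨W, fun w hw => ?_, hW, hWd, hWp⟩
          have : resT T _ hPT' w = w := Subtype.ext (hfix w w.2)
          rw [this]; exact hw
      obtain ⟨e, he⟩ := exists_res_equiv (Q := Q) (perp Q P) W
      have hle := map_subtype_le_perp (Q := Q) W
      refine ⟨P ⊔ W.map (perp Q P).subtype, inv_sup hPT (inv_map_subtype hPT' hWT),
        nondeg_sup hP (nondeg_of_equiv e he hW) hle, ?_, ?_⟩
      · rw [finrank_sup_perp hP hle, hPd, ← e.finrank_eq, hWd]; ring
      · rw [isPlus_sup_iff hP (nondeg_of_equiv e he hW) hle (by rw [hPd]; decide)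
          (by rw [← e.finrank_eq, hWd]; exact even_two_mul s), ← isPlus_iff_of_equiv e he, hWp]
        tauto

end Cfsg.Agent.H958
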