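import Mathlib
import Cfsg.Agent.H958.JTwo
import Cfsg.Agent.H958.Invol

/-!
# Isometries with `(T - 1) ^ 3 = 0` in odd characteristic
-/

set_option autoImplicit false

namespace Cfsg.Agent.H958

open Module QuadraticMap Cfsg.Agent.LieClassical.OrthCore Cfsg.Agent.LieClassical.OrthTrans
  Cfsg.Agent.H955 Cfsg.Agent.LieClassical.OrthFinite

universe u v w
variable {F : Type u} [Field F]

section Rank

variable {V : Type v} [AddCommGroup V] [Module F V]

/-- the rank of `(T - 1) ^ 2` -/
noncomputable def rkTwo (T : V ≃ₗ[F] V) : ℕ := finrank F (LinearMap.range (nu T ∘ₗ nu T))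

/-- the rank of `T - 1` -/
noncomputable def rkOne (T : V ≃ₗ[F] V) : ℕ := finrank F (LinearMap.range (nu T))

theorem rkOne_eq (T : V ≃ₗ[F] V) : rkOne T = finrank F (comS T) := rfl

variable [FiniteDimensional F V]

theorem rank_ineq (f : V →ₗ[F] V) :
    2 * finrank F (LinearMap.range f) ≤ finrank F V + finrank F (LinearMap.range (f ∘ₗ f)) := by
  let g : LinearMap.range f →ₗ[F] V := f.domRestrict (LinearMap.range f)
  have h1 := LinearMap.finrank_range_add_finrank_ker g
  have h2 := LinearMap.finrank_range_add_finrank_ker f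
  have h3 : LinearMap.range g = LinearMap.range (f ∘ₗ f) := by
    ext x
    constructor
    · rintro ⟨⟨y, z, rfl⟩, rfl⟩
      exact ⟨z, rfl⟩
    · rintro ⟨z, rfl⟩
      exact ⟨⟨f z, z, rfl⟩, rfl⟩
  have h4 : finrank F (LinearMap.ker g) ≤ finrank F (LinearMap.ker f) := by
    have h5 : (LinearMap.ker g).map (LinearMap.range f).subtype ≤ LinearMap.ker f := by
      rintro _ ⟨y, hy, rfl⟩
      exact hy
    rw [← Submodule.finrank_map_subtype_eq (LinearMap.range f) (LinearMap.ker g)]
    exact Submodule.finrank_mono h5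
  rw [h3] at h1
  omega

theorem map_nu_resT {T : V ≃ₗ[F] V} {W : Submodule F V} (h : ∀ w ∈ W, T w ∈ W) :
    rkTwo (resT T W h) = finrank F (W.map (nu T ∘ₗ nu T)) := by
  have e : (LinearMap.range (nu (resT T W h) ∘ₗ nu (resT T W h))).map W.subtype =
      W.map (nu T ∘ₗ nu T) := by
    ext v
    constructor
    · rintro ⟨_, ⟨w, rfl⟩, rfl⟩
      exact ⟨w, w.2, rfl⟩
    · rintro ⟨w, hw, rfl⟩
      exact ⟨_, ⟨⟨w, hw⟩, rfl⟩, rfl⟩
  rw [rkTwo, ← e, Submodule.finrank_map_subtype_eq]

/-- additivity -/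
theorem rk_add {T : V ≃ₗ[F] V} {W P : Submodule F V} (hc : IsCompl W P) (hW : ∀ w ∈ W, T w ∈ W)
    (hP : ∀ w ∈ P, T w ∈ P) :
    rkOne T = rkOne (resT T W hW) + rkOne (resT T P hP) ∧
      rkTwo T = rkTwo (resT T W hW) + rkTwo (resT T P hP) := by
  constructor
  · rw [rkOne_eq (resT T W hW), rkOne_eq (resT T P hP), finrank_comS_resT, finrank_comS_resT]
    exact finrank_range_add (nu T) hc (map_nu_le hW) (map_nu_le hP)
  · rw [map_nu_resT, map_nu_resT]
    refine finrank_range_add _ hc ?_ ?_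
    · rw [Submodule.map_comp]
      exact (Submodule.map_mono (map_nu_le hW)).trans (map_nu_le hW)
    · rw [Submodule.map_comp]
      exact (Submodule.map_mono (map_nu_le hP)).trans (map_nu_le hP)

end Rank

variable {V : Type v} [AddCommGroup V] [Module F V] {Q : QuadraticForm F V}

/-- `(T - 1) ^ 3 = 0` -/
structure IsJThree (Q : QuadraticForm F V) (T : V ≃ₗ[F] V) : Prop where
  mem : T ∈ O Q
  cube : ∀ v, nu T (nu T (nu T v)) = 0

namespace IsJThree

variable {T : V ≃ₗ[F] V}

theorem pow_apply (h : IsJThree Q T) (n : ℕ) (v : V) :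
    (T ^ n) v = v + n • nu T v + n.choose 2 • nu T (nu T v) := by
  have hT : ∀ x, T x = x + nu T x := fun x => by rw [nu_apply]; abel
  induction n with
  | zero => rw [pow_zero, Nat.choose_zero_succ, zero_smul, zero_smul, add_zero, add_zero]; rfl
  | succ n ih =>
    rw [pow_succ', LinearEquiv.mul_apply, ih, map_add, map_add, map_nsmul, map_nsmul, hT v,
      hT (nu T v), hT (nu T (nu T v)), h.cube, add_zero, Nat.choose_succ_succ' n 1, Nat.choose_one_right,
      add_smul, add_smul, one_smul, smul_add]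
    abel

theorem pow_char (h : IsJThree Q T) {p : ℕ} [hp : Fact p.Prime] [CharP F p] (hp2 : p ≠ 2) :
    T ^ p = 1 := by
  have h3 : 2 < p := lt_of_le_of_ne hp.out.two_le (Ne.symm hp2)
  have hd : p ∣ p.choose 2 := hp.out.dvd_choose_self (by norm_num) h3
  ext v
  rw [h.pow_apply, ← Nat.cast_smul_eq_nsmul F, CharP.cast_eq_zero, zero_smul, add_zero,
    ← Nat.cast_smul_eq_nsmul F, (CharP.cast_eq_zero_iff F p _).2 hd, zero_smul, add_zero]
  rfl

variable [FiniteDimensional F V]

theorem resThree (h : IsJThree Q T) {W : Submodule F V} (hW : ∀ w ∈ W, T w ∈ W) :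
    IsJThree (res Q W) (resT T W hW) where
  mem := resT_mem h.mem hW
  cube v := Subtype.ext (h.cube v)

theorem even (h : IsJThree Q T) (h2 : (2 : F) ≠ 0) (hQ : Nondeg Q) : Even (rkOne T) := by
  let f : V →ₗ[F] V := (T : V →ₗ[F] V) - ((T⁻¹ : V ≃ₗ[F] V) : V →ₗ[F] V)
  have hf : ∀ v, f v = T v - T⁻¹ v := fun _ => rfl
  have hTi : T⁻¹ ∈ O Q := (O Q).inv_mem h.mem
  have hTTi : ∀ v, T (T⁻¹ v) = v := fun v => T.apply_symm_apply v
  have hTiT : ∀ v, T⁻¹ (T v) = v := fun v => T.symm_apply_apply v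
  have hpol : ∀ u v, polar Q u (T⁻¹ v) = polar Q (T u) v := fun u v => by
    rw [← polar_map h.mem u (T⁻¹ v), hTTi]
  have hpol' : ∀ u v, polar Q u (T v) = polar Q (T⁻¹ u) v := fun u v => by
    rw [← polar_map h.mem (T⁻¹ u) v, hTTi]
  let B : LinearMap.BilinForm F V := (polarBilin Q).compl₂ f
  have hB : ∀ u v, B u v = polar Q u (T v - T⁻¹ v) := fun _ _ => rfl
  obtain ⟨k, hk⟩ := even_rank_alt B (fun v => by
    change polar Q v (T v - T⁻¹ v) = 0
    rw [polar_sub_right, hpol, polar_comm Q v (T v), sub_self]) (fixS T) (by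
    intro u
    have key : (∀ v, B u v = 0) ↔ T u = T⁻¹ u := by
      constructor
      · intro h1
        have h3 : T⁻¹ u - T u = 0 := hQ _ fun v => by
          have h4 := h1 v
          rw [hB, polar_sub_right, hpol, hpol', ← polar_sub_left] at h4
          exact h4
        exact (sub_eq_zero.1 h3).symm
      · intro h1 v
        rw [hB, polar_sub_right, hpol, hpol', h1, sub_self]
    rw [key, mem_fixS]
    constructor
    · intro h1
      have h3 : T⁻¹ u = u := by
        conv_lhs => rw [← h1]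
        exact hTiT u
      rw [h1, h3]
    · intro h1
      -- `T ^ 2 u = u`
      have h3 : T (T u) = u := by rw [h1, hTTi]
      set y := nu T u with hy
      have h4 : T y = -y := by
        rw [hy, nu_apply, map_sub, h3]; abel
      have h5 : nu T y = (-2 : F) • y := by
        rw [nu_apply, h4, neg_smul, two_smul]; abel
      have h6 : nu T (nu T (nu T y)) = (-2 : F) • (-2 : F) • (-2 : F) • y := by
        rw [h5, map_smul, h5, map_smul, map_smul, h5]
      have h7 : (-2 : F) ≠ 0 := neg_ne_zero.2 h2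
      rw [h.cube] at h6
      have h8 : y = 0 := by
        have a1 := (smul_eq_zero.1 h6.symm).resolve_left h7
        have a2 := (smul_eq_zero.1 a1).resolve_left h7
        exact (smul_eq_zero.1 a2).resolve_left h7
      exact sub_eq_zero.1 h8)
  have h1 := finrank_fixS_add_comS T
  exact ⟨k, by rw [rkOne_eq]; omega⟩

/-- the constraints on an invariant nondegenerate subspace -/
theorem split (h : IsJThree Q T) (h2 : (2 : F) ≠ 0) (hQ : Nondeg Q) {W : Submodule F V}
    (hW : Nondeg (H955.res Q W)) (hT : ∀ w ∈ W, T w ∈ W) :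
    ∃ a b a' b', rkOne T = a + b ∧ rkTwo T = a' + b' ∧ Even a ∧ Even b ∧
      a = rkOne (resT T W hT) ∧ a' = rkTwo (resT T W hT) ∧
      2 * a ≤ finrank F W + a' ∧ 2 * b ≤ finrank F (perp Q W) + b' := by
  have hT' := map_mem_perp h.mem hT
  have hP := nondeg_perp hQ hW
  obtain ⟨h1, h3⟩ := rk_add (isCompl_perp hW) hT hT'
  exact ⟨_, _, _, _, h1, h3, (h.resThree hT).even h2 hW, (h.resThree hT').even h2 hP, rfl, rfl,
    rank_ineq _, rank_ineq _⟩

end IsJThree

/-- in odd characteristic `(T - 1) ^ 2 = 0` implies the alternating property. -/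
theorem isJTwo_of_sq (h2 : (2 : F) ≠ 0) {T : V ≃ₗ[F] V} (hT : T ∈ O Q)
    (h : ∀ v, nu T (nu T v) = 0) : IsJTwo Q T := by
  have hsq : ∀ v, T (T v - v) = T v - v := fun v => sub_eq_zero.1 (h v)
  refine ⟨hT, hsq, fun v => ?_⟩
  set n := T v - v with hn
  have h1 : polar Q v n = - Q n := by
    have h3 := hT v
    have h4 : T v = v + n := by rw [hn]; abel
    rw [h4, Q_add] at h3
    linear_combination h3
  have h5 : polar Q n n = 0 := by
    have h6 : polar Q (T v) (T n) = polar Q v n := polar_map hT v n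
    have h4 : T v = v + n := by rw [hn]; abel
    have hTn : T n = n := hsq v
    rw [hTn, h4, polar_add_left] at h6
    exact add_left_cancel (h6.trans (add_zero _).symm)
  rw [polar_self'] at h5
  rw [h1, (mul_eq_zero.1 h5).resolve_left h2, neg_zero]

theorem IsJTwo.isJThree {T : V ≃ₗ[F] V} (h : IsJTwo Q T) : IsJThree Q T where
  mem := h.mem
  cube v := by
    have : nu T (nu T v) = 0 := sub_eq_zero.2 (h.sq v)
    rw [this, map_zero]

theorem IsJTwo.rkTwo_eq {T : V ≃ₗ[F] V} (h : IsJTwo Q T) : rkTwo T = 0 := by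
  have h1 : nu T ∘ₗ nu T = 0 := by
    ext v
    exact sub_eq_zero.2 (h.sq v)
  rw [rkTwo, h1, LinearMap.range_zero, finrank_bot]

/-- gluing -/
theorem exists_glue_three [FiniteDimensional F V] {W : Submodule F V} (hW : Nondeg (res Q W))
    {g : W ≃ₗ[F] W} {g' : perp Q W ≃ₗ[F] perp Q W} (hg : IsJThree (res Q W) g)
    (hg' : IsJThree (res Q (perp Q W)) g') :
    ∃ T, IsJThree Q T ∧ (∀ w : W, T w = g w) ∧ (∀ w : perp Q W, T w = g' w) ∧
      rkOne T = rkOne g + rkOne g' ∧ rkTwo T = rkTwo g + rkTwo g' := by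
  obtain ⟨T, hT, h1, h3⟩ := exists_glue hW hg.mem hg'.mem
  have hWT : ∀ w ∈ W, T w ∈ W := fun w hw => by
    rw [h1 ⟨w, hw⟩]; exact (g ⟨w, hw⟩).2
  have hPT : ∀ w ∈ perp Q W, T w ∈ perp Q W := fun w hw => by
    rw [h3 ⟨w, hw⟩]; exact (g' ⟨w, hw⟩).2
  have e1 : resT T W hWT = g := by
    ext w
    exact h1 w
  have e2 : resT T (perp Q W) hPT = g' := by
    ext w
    exact h3 w
  obtain ⟨h4, h5⟩ := rk_add (isCompl_perp hW) hWT hPT
  rw [e1, e2] at h4 h5
  have n1 : ∀ w : W, nu T w = (nu g w : V) := fun w => by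
    rw [nu_apply, h1, nu_apply]; rfl
  have n2 : ∀ w : perp Q W, nu T w = (nu g' w : V) := fun w => by
    rw [nu_apply, h3, nu_apply]; rfl
  refine ⟨T, ⟨hT, fun v => ?_⟩, h1, h3, h4, h5⟩
  obtain ⟨x, rfl⟩ := (decomp hW).surjective v
  rw [decomp_apply]
  simp only [map_add, n1, n2]
  rw [hg.cube, hg'.cube]
  simp

/-- a nontrivial element in dimension three -/
theorem exists_three [Finite F] [FiniteDimensional F V] (h2 : (2 : F) ≠ 0) (hQ : Nondeg Q)
    (hd : finrank F V = 3) : ∃ T, IsJThree Q T ∧ rkOne T = 2 ∧ rkTwo T = 1 ∧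
      ∀ v, T v = v → Q v = 0 := by
  obtain ⟨e, he0, he⟩ := exists_singular Q (by omega)
  obtain ⟨f, hf⟩ := Cfsg.Agent.LieClassical.OrthTrans.exists_hyp hQ he he0
  have hn := nondeg_hperp hQ hf
  have hnd := finrank_hperp hf
  obtain ⟨w, hw⟩ := exists_aniso_vec hn (by omega)
  have hwQ : Q (w : V) ≠ 0 := hw
  have hew : polar Q e (w : V) = 0 := w.2.1
  have hfw : polar Q f (w : V) = 0 := w.2.2
  let T := siegel Q e (w : V) he hew
  have hTO : T ∈ O Q := E_le_O (siegel_mem_E _ _)
  have hν : ∀ v, nu T v = polar Q e v • (w : V) - polar Q (w : V) v • e - (Q (w : V) * polar Q e v) • e := by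
    intro v
    have h3 : T v = siegelLin Q e (w : V) v := rfl
    rw [nu_apply, h3, siegelLin_apply]
    abel
  have hee : polar Q e e = 0 := by rw [polar_self', he, mul_zero]
  have hνe : nu T e = 0 := by
    rw [hν, hee, polar_comm, hew, mul_zero, zero_smul, zero_smul, sub_zero, sub_zero]
  have hνw : nu T (w : V) = (-(2 * Q (w : V))) • e := by
    rw [hν, hew, polar_self', mul_zero, zero_smul, zero_smul, sub_zero, zero_sub, neg_smul]
  have hν2 : ∀ v, nu T (nu T v) = (polar Q e v * -(2 * Q (w : V))) • e := by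
    intro v
    rw [hν v, map_sub, map_sub, map_smul, map_smul, map_smul, hνe, smul_zero, smul_zero, sub_zero, sub_zero,
      hνw, smul_smul]
  have hJ : IsJThree Q T := ⟨hTO, fun v => by rw [hν2 v, map_smul, hνe, smul_zero]⟩
  have hev := hJ.even h2 hQ
  have hineq := rank_ineq (nu T)
  have hef : polar Q e f = 1 := hf.pair
  have hne : nu T f ≠ 0 := by
    intro h0
    have h1 := hν2 f
    rw [h0, map_zero, hef, one_mul] at h1
    rcases smul_eq_zero.1 h1.symm with h3 | h3
    · exact (mul_ne_zero h2 hwQ) (neg_eq_zero.1 h3)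
    · exact he0 h3
  have h1pos : 0 < rkOne T := by
    rw [rkOne]
    apply Nat.pos_of_ne_zero
    intro h0
    rw [Submodule.finrank_eq_zero, LinearMap.range_eq_bot] at h0
    exact hne (by rw [h0]; rfl)
  have hle2 : rkTwo T ≤ 1 := by
    have h3 : LinearMap.range (nu T ∘ₗ nu T) ≤ F ∙ e := by
      rintro _ ⟨v, rfl⟩
      rw [Submodule.mem_span_singleton]
      exact ⟨_, (hν2 v).symm⟩
    have h4 := Submodule.finrank_mono h3
    rw [finrank_span_singleton he0] at h4
    exact h4
  have hrk1 : rkOne T = finrank F (LinearMap.range (nu T)) := rfl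
  have hrk2 : rkTwo T = finrank F (LinearMap.range (nu T ∘ₗ nu T)) := rfl
  have hfin : rkOne T = 2 ∧ rkTwo T = 1 := by
    obtain ⟨k, hk⟩ := hev
    omega
  refine ⟨T, hJ, hfin.1, hfin.2, ?_⟩
  intro v hv
  -- `v` is orthogonal to the image of `ν`, hence to `w - Q(w) e` and to `e`.
  have h0 : nu T v = 0 := sub_eq_zero.2 hv
  have h1 := hν2 v
  rw [h0, map_zero] at h1
  have hev0 : polar Q e v = 0 := by
    rcases smul_eq_zero.1 h1.symm with h3 | h3
    · exact (mul_eq_zero.1 h3).resolve_right (neg_ne_zero.2 (mul_ne_zero h2 hwQ))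
    · exact absurd h3 he0
  have hwv0 : polar Q (w : V) v = 0 := by
    have h3 := hν v
    rw [h0, hev0, mul_zero, zero_smul, zero_smul, sub_zero, zero_sub] at h3
    exact (smul_eq_zero.1 (neg_eq_zero.1 h3.symm)).resolve_right he0
  -- `v` lies in `⟨e⟩`.
  obtain ⟨⟨y, a, b⟩, rfl⟩ := (hypEquiv hf).surjective v
  have hQv := Q_hypEquiv hf (y, a, b)
  rw [hypEquiv_apply] at hev0 hwv0
  simp only at hev0 hwv0 hQv
  have hb : b = 0 := by
    have h5 : polar Q e (y : V) = 0 := y.2.1
    rw [polar_add_right, polar_add_right, polar_smul_right, polar_smul_right, h5, hee, hef] at hev0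
    simpa using hev0
  have hy : Q (y : V) = 0 := by
    have hwe : polar Q (w : V) e = 0 := by rw [polar_comm]; exact hew
    have hwf : polar Q (w : V) f = 0 := by rw [polar_comm]; exact hfw
    rw [polar_add_right, polar_add_right, polar_smul_right, polar_smul_right, hwe, hwf] at hwv0
    have hwy : polar Q (w : V) (y : V) = 0 := by simpa using hwv0
    -- the complement is one-dimensional
    have h6 : ∃ c : F, c • w = y := by
      have h7 : finrank F (hperp Q e f) = 1 := by omega
      have hw0 : w ≠ 0 := by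
        rintro rfl
        exact hw (map_zero _)
      exact (finrank_eq_one_iff_of_nonzero' w hw0).1 h7 y
    obtain ⟨c, rfl⟩ := h6
    have h8 : ((c • w : hperp Q e f) : V) = c • (w : V) := rfl
    rw [h8, polar_smul_right, polar_self', smul_eq_mul] at hwy
    rw [h8, QuadraticMap.map_smul]
    rcases mul_eq_zero.1 hwy with h9 | h9
    · rw [h9]; simp
    · exact absurd h9 (mul_ne_zero h2 hwQ)
  rw [hQv, hy, hb, mul_zero, add_zero]

end Cfsg.Agent.H958
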