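import Mathlib
import Cfsg.Agent.H958.JThreeExists
import Cfsg.Agent.H958.TransP

/-!
# Elements of order `p` fixing no member of a class of nondegenerate subspaces of odd dimension
-/

set_option autoImplicit false

namespace Cfsg.Agent.H958

open Module QuadraticMap Cfsg.Agent.LieClassical.OrthCore Cfsg.Agent.LieClassical.OrthTrans
  Cfsg.Agent.H955 Cfsg.Agent.LieClassical.OrthFinite

universe u v w
variable {F : Type u} [Field F]

theorem isPlus_perp_equiv {V : Type v} [AddCommGroup V] [Module F V] {Q : QuadraticForm F V}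
    {V' : Type w} [AddCommGroup V'] [Module F V'] {Q' : QuadraticForm F V'} (e : V ≃ₗ[F] V')
    (he : ∀ v, Q' (e v) = Q v) (a : V) :
    IsPlus (res Q' (perp Q' (F ∙ e a))) ↔ IsPlus (res Q (perp Q (F ∙ a))) := by
  have h : (perp Q (F ∙ a)).map (e : V →ₗ[F] V') = perp Q' (F ∙ e a) := by
    ext v'
    obtain ⟨v, rfl⟩ := e.surjective v'
    constructor
    · rintro ⟨u, hu, huv⟩
      have huv' : u = v := e.injective huv
      subst huv'
      intro w hw
      obtain ⟨c, rfl⟩ := Submodule.mem_span_singleton.1 hw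
      rw [polar_smul_left, polar_of_equiv e he, hu a (Submodule.mem_span_singleton_self a), smul_zero]
    · intro hv
      refine ⟨v, ?_, rfl⟩
      intro w hw
      obtain ⟨c, rfl⟩ := Submodule.mem_span_singleton.1 hw
      rw [polar_smul_left, ← polar_of_equiv e he, hv _ (Submodule.mem_span_singleton_self _), smul_zero]
  let e' : perp Q (F ∙ a) ≃ₗ[F] perp Q' (F ∙ e a) := e.ofSubmodules _ _ h
  exact (isPlus_iff_of_equiv e' (fun v => he v)).symm

variable {V : Type v} [AddCommGroup V] [Module F V] [FiniteDimensional F V] {Q : QuadraticForm F V}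

theorem IsJThree.not_scalar {T : V ≃ₗ[F] V} (h : IsJThree Q T) (h2 : (2 : F) ≠ 0) (hG : Good Q)
    (h0 : 0 < rkOne T) (h1 : rkOne T < finrank F V) (z : F) : ¬ ∀ v, T v = z • v := by
  intro hz
  have hzz := sq_eq_one_of_scalar hG h.mem hz
  rcases mul_self_eq_one_iff.1 hzz with h3 | h3
  · have h4 : nu T = 0 := by
      ext v
      rw [nu_apply, hz, h3, one_smul, sub_self]
      rfl
    rw [rkOne, h4, LinearMap.range_zero, finrank_bot] at h0
    exact lt_irrefl _ h0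
  · have h4 : LinearMap.range (nu T) = ⊤ := by
      rw [eq_top_iff]
      intro v _
      refine ⟨-((2 : F)⁻¹ • v), ?_⟩
      rw [nu_apply, hz, h3, neg_smul, one_smul, neg_neg, sub_neg_eq_add, ← two_smul F, smul_smul,
        mul_inv_cancel₀ h2, one_smul]
    rw [rkOne, h4, finrank_top] at h1
    exact lt_irrefl _ h1

theorem exists_noP [Finite F] {p : ℕ} [hp : Fact p.Prime] [CharP F p] (h2 : (2 : F) ≠ 0) (hG : Good Q)
    {d m : ℕ} (hd : finrank F V = 2 * d) (hd4 : 4 ≤ d) (hm : Odd m) {W₀ : Submodule F V}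
    (hW₀ : Nondeg (res Q W₀)) (hWd : finrank F W₀ = m) (hmn : m < 2 * d) :
    ∃ T ∈ E Q, T ^ p = 1 ∧ (∀ z : F, ¬ ∀ v, T v = z • v) ∧
      ∀ g ∈ O Q, (∀ v ∈ W₀.map (g : V →ₗ[F] V), T v ∈ W₀.map (g : V →ₗ[F] V)) → False := by
  have hQ := hG.nondeg
  have hp2 : p ≠ 2 := by
    intro h
    apply h2
    have := CharP.cast_eq_zero F p
    rw [h] at this
    exact_mod_cast this
  have hpo : Odd p := hp.out.odd_of_ne_two hp2
  rcases Nat.even_or_odd d with hde | hdo
  · -- `d` even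
    obtain ⟨l, hl⟩ := hde
    obtain ⟨m₁, hm₁⟩ := hm
    have hPd := finrank_add_perp hQ W₀
    obtain ⟨X₀, hX₀, hX₀d, hX₀T⟩ : ∃ X₀ : Submodule F V, Nondeg (res Q X₀) ∧ finrank F X₀ % 4 = 1 ∧
        ∀ (T : V ≃ₗ[F] V), T ∈ O Q → ∀ g ∈ O Q,
          (∀ v ∈ W₀.map (g : V →ₗ[F] V), T v ∈ W₀.map (g : V →ₗ[F] V)) →
          (∀ v ∈ X₀.map (g : V →ₗ[F] V), T v ∈ X₀.map (g : V →ₗ[F] V)) := by
      by_cases hm4 : m % 4 = 1
      · exact ⟨W₀, hW₀, by rw [hWd]; exact hm4, fun T _ g _ h => h⟩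
      · refine ⟨perp Q W₀, nondeg_perp hQ hW₀, by omega, fun T hT g hg h => ?_⟩
        rw [← perp_map hg]
        exact map_mem_perp hT h
    obtain ⟨a₀, ha₀, ha₀p⟩ := exists_aniso_plus h2 hX₀ (k := finrank F X₀ / 2) (by omega)
    obtain ⟨ε, hε⟩ := FiniteField.exists_nonsquare (F := F) (by
      rw [ringChar.eq F p]; exact hp2)
    have hε0 : ε ≠ 0 := by
      rintro rfl
      exact hε (IsSquare.zero)
    set δ₀ := res Q X₀ a₀ with hδ₀
    obtain ⟨T, hT, hT1, hT2, hfix⟩ := exists_E3 h2 hQ hd ⟨l, hl⟩ hd4 (mul_ne_zero hε0 ha₀)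
    have hTp : T ^ p = 1 := hT.pow_char hp2
    refine ⟨T, mem_E_of_odd hG hT.mem hpo hTp, hTp,
      hT.not_scalar h2 hG (by omega) (by omega), ?_⟩
    intro g hg hgT
    have hXT := hX₀T T hT.mem g hg hgT
    have hX := nondeg_map hg hX₀
    obtain ⟨a, ha, hap, c, hc⟩ := E3_no h2 hQ hd hT hT1 hT2 hfix hX hXT (by rw [finrank_map']; exact hX₀d)
    have hg0 := Q_mapEquiv hg X₀
    have hb : res Q (X₀.map (g : V →ₗ[F] V)) (mapEquiv g X₀ a₀) = δ₀ := hg0 a₀
    have hbp := (isPlus_perp_equiv (mapEquiv g X₀) hg0 a₀).2 ha₀p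
    obtain ⟨c', hc'⟩ := aniso_unique h2 hX ha (by rw [hb]; exact ha₀) hap hbp
    rw [hb, hc] at hc'
    -- `c ^ 2 * (ε * δ₀) = c' ^ 2 * δ₀`
    apply hε
    have hc0 : c ≠ 0 := by
      rintro rfl
      rw [hc] at ha
      simp at ha
    refine ⟨c' / c, ?_⟩
    field_simp
    apply mul_right_cancel₀ ha₀
    linear_combination hc'
  · -- `d` odd
    obtain ⟨l, hl⟩ := hdo
    by_cases hm4 : m % 4 = 1
    · obtain ⟨T, hT, hT1, hT2⟩ := exists_E2 h2 hQ hd ⟨l, hl⟩ (by omega)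
      have hTp : T ^ p = 1 := hT.pow_char hp2
      refine ⟨T, mem_E_of_odd hG hT.mem hpo hTp, hTp,
        hT.not_scalar h2 hG (by omega) (by omega), ?_⟩
      intro g hg hgT
      have hX := nondeg_map hg hW₀
      obtain ⟨a, b, a', b', h1, h3, ⟨k, hk⟩, ⟨k', hk'⟩, -, -, h4, h5⟩ := hT.split h2 hQ hX hgT
      have hPd := finrank_add_perp hQ (W₀.map (g : V →ₗ[F] V))
      rw [finrank_map', hWd] at hPd h4
      omega
    · obtain ⟨U, hU, hUd⟩ := exists_tsing hQ hd (k := 2 * l) (by omega) (by omega)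
      obtain ⟨T, hT, hJ, hTU⟩ := exists_JTwo hQ hU hUd
      have hTp : T ^ p = 1 := hJ.pow_char
      refine ⟨T, hT, hTp, hJ.not_scalar hQ (by rw [hTU]; omega), ?_⟩
      intro g hg hgT
      have hX := nondeg_map hg hW₀
      obtain ⟨a, b, hab, ⟨k, hk⟩, ⟨k', hk'⟩, ha, hb, -, -⟩ := hJ.split hQ hX hgT
      have hPd := finrank_add_perp hQ (W₀.map (g : V →ₗ[F] V))
      rw [finrank_map', hWd] at hPd ha
      rw [hTU, hUd] at hab
      obtain ⟨m₁, hm₁⟩ := hm
      omega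

end Cfsg.Agent.H958
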