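import Mathlib
import Cfsg.Agent.H958.TransP
import Cfsg.Agent.H958.CharTwo

/-!
# `r = p = 2`
-/

set_option autoImplicit false

namespace Cfsg.Agent.H958

open Module QuadraticMap Cfsg.Agent.LieClassical.OrthCore Cfsg.Agent.LieClassical.OrthTrans
  Cfsg.Agent.H955 Cfsg.Agent.LieClassical.OrthFinite
open scoped MatrixGroups Matrix

universe u v
variable {F : Type u} [Field F] [Finite F]
  {V : Type v} [AddCommGroup V] [Module F V] [FiniteDimensional F V] {Q : QuadraticForm F V}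

/-- the positive part in characteristic two -/
theorem two_two (h2 : (2 : F) = 0) (hQ : Nondeg Q) {d : ℕ} (hd : finrank F V = 2 * d)
    {W₀ : Submodule F V} (hW₀ : Nondeg (res Q W₀)) {s : ℕ} (hWd : finrank F W₀ = 2 * s) (hs0 : 0 < s)
    (hs : s < d) (h : (IsPlus Q ∧ IsPlus (res Q W₀) ∧ (Odd d ∨ Even s)) ∨
      (¬ IsPlus Q ∧ ¬ IsPlus (res Q W₀) ∧ (Even d ∨ Odd s))) :
    (∀ T ∈ E Q, ((∀ v, T (T v) = v) ∨ (∀ v, T (T v) = -v)) → (∀ z : F, ¬ ∀ v, T v = z • v) →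
      ∃ g ∈ O Q, ∀ v ∈ W₀.map (g : V →ₗ[F] V), T v ∈ W₀.map (g : V →ₗ[F] V)) := by
  intro T hT hTT _
  have hTO := E_le_O hT
  have hTT' : ∀ v, T (T v) = v := by
    rcases hTT with h1 | h1
    · exact h1
    · intro v
      rw [h1, neg_eq_self' h2]
  suffices hW : ∃ W : Submodule F V, (∀ v ∈ W, T v ∈ W) ∧ Nondeg (res Q W) ∧ finrank F W = 2 * s ∧
      (IsPlus (res Q W) ↔ IsPlus (res Q W₀)) by
    obtain ⟨W, hWT, hW, hWd', hWp⟩ := hW
    obtain ⟨g, hg, rfl⟩ := (class_even hQ hW₀ (by rw [hWd]; exact even_two_mul s) W).1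
      ⟨by rw [hWd', hWd], hW, hWp⟩
    exact ⟨g, hg, hWT⟩
  by_cases hβ : ∃ v, polar Q v (T v) ≠ 0
  · exact charTwo_inv h2 s hQ (by rw [hd]; exact even_two_mul d) hTO hTT' hβ hs0 (by omega) _
  · push Not at hβ
    have hJ := isJTwo_of_beta h2 hTO hTT' hβ
    rcases h with ⟨h1, h3, h4⟩ | ⟨h1, h3, h4⟩
    · obtain ⟨W, g1, g2, g3, g4⟩ := jtwo_plus hQ hd hJ h1 hs h4
      exact ⟨W, g1, g2, g3, by rw [g4]; exact ⟨fun _ => h3, fun _ => trivial⟩⟩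
    · obtain ⟨W, g1, g2, g3, g4⟩ := jtwo_minus hQ hd hJ h1 hs0 hs h4
      exact ⟨W, g1, g2, g3, by rw [g4]; exact ⟨False.elim, fun h => h3 h⟩⟩

end Cfsg.Agent.H958
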